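import Groth.Agent.KFlatLib.Ring.TorPoly
import Mathlib.RingTheory.Unramified.Finite
import Mathlib.RingTheory.Smooth.StandardSmoothOfFree
import Mathlib.RingTheory.Flat.Localization
import Mathlib.RingTheory.Etale.Basic

/-!
# Tor dimension over a smooth algebra
-/

set_option linter.style.haveILetI false
set_option backward.isDefEq.respectTransparency false

universe u

open CategoryTheory CategoryTheory.Limits
open scoped TensorProduct

namespace Groth.Agent.H1HypTor

open Groth.Agent.H9Misc

section

variable {R : Type u} [CommRing R] {K F M : Type u} [AddCommGroup K] [Module R K] [AddCommGroup F] [Module R F]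
  [AddCommGroup M] [Module R M]

/-- The short complex of an exact pair of maps. -/
noncomputable abbrev sesOf (f : K →ₗ[R] F) (q : F →ₗ[R] M) (hex : Function.Exact f q) :
    ShortComplex (ModuleCat.{u} R) :=
  ShortComplex.mk (ModuleCat.ofHom f) (ModuleCat.ofHom q) (ModuleCat.hom_ext (LinearMap.ext hex.apply_apply_eq_zero))

theorem sesOf_shortExact (f : K →ₗ[R] F) (q : F →ₗ[R] M) (hf : Function.Injective f) (hex : Function.Exact f q)
    (hq : Function.Surjective q) : (sesOf f q hex).ShortExact :=
  { exact := (ShortComplex.moduleCat_exact_iff (sesOf f q hex)).2 fun x hx => (hex x).1 hx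
    mono_f := (ModuleCat.mono_iff_injective _).2 hf
    epi_g := (ModuleCat.epi_iff_surjective _).2 hq }

/-- Dimension shift through a flat module. -/
theorem torDimLE_succ_iff (f : K →ₗ[R] F) (q : F →ₗ[R] M) (hf : Function.Injective f) (hex : Function.Exact f q)
    (hq : Function.Surjective q) [Module.Flat R F] (d : ℕ) :
    DRing.HasTorDimLE R (d + 1) M ↔ DRing.HasTorDimLE R d K := by
  haveI : Module.Flat R (sesOf f q hex).X₂ := ‹Module.Flat R F›
  exact DRingTor.torDimLE_succ_iff (sesOf_shortExact f q hf hex hq) d

theorem torDimLE_zero_iff : DRing.HasTorDimLE R 0 M ↔ Module.Flat R M :=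
  DRingTor.torDimLE_zero_iff (ModuleCat.of R M)

theorem torDimLE_mono {d d' : ℕ} (h : DRing.HasTorDimLE R d M) (hd : d ≤ d') : DRing.HasTorDimLE R d' M :=
  fun N _ _ p hp => h N p (by omega)

end

/-- Rise of tor dimension along a flat algebra, given the case of modules flat over the base. -/
theorem torDimLE_rise {A B : Type u} [CommRing A] [CommRing B] [Algebra A B] [Module.Flat A B] (n : ℕ)
    (h0 : ∀ (M : Type u) [AddCommGroup M] [Module B M] [Module A M] [IsScalarTower A B M],
      Module.Flat A M → DRing.HasTorDimLE B n M) :
    ∀ (m : ℕ) (M : Type u) [AddCommGroup M] [Module B M] [Module A M] [IsScalarTower A B M],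
      DRing.HasTorDimLE A m M → DRing.HasTorDimLE B (m + n) M := by
  intro m
  induction m with
  | zero =>
    intro M _ _ _ _ h
    rw [zero_add]
    exact h0 M (torDimLE_zero_iff.1 h)
  | succ m ih =>
    intro M _ _ _ _ h
    let q : (M →₀ B) →ₗ[B] M := Finsupp.linearCombination B id
    have hq : Function.Surjective q := Finsupp.linearCombination_id_surjective B M
    haveI : Module.Flat A (M →₀ B) := by
      classical
      exact Module.Flat.of_linearEquiv (finsuppLequivDFinsupp A)
    have h1 : DRing.HasTorDimLE A m (LinearMap.ker q) :=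
      (torDimLE_succ_iff ((LinearMap.ker q).subtype.restrictScalars A) (q.restrictScalars A) (Submodule.injective_subtype (LinearMap.ker q))
        (LinearMap.exact_subtype_ker_map q) hq m).1 h
    have h2 := (torDimLE_succ_iff (LinearMap.ker q).subtype q (Submodule.injective_subtype _)
      (LinearMap.exact_subtype_ker_map q) hq (m + n)).2 (ih _ h1)
    rwa [show m + 1 + n = m + n + 1 by omega]

/-- The standard smooth case. -/
theorem torDimLE_of_standardSmooth {A B : Type u} [CommRing A] [CommRing B] [Algebra A B] (n : ℕ)
    [Algebra.IsStandardSmoothOfRelativeDimension n A B]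
    (M : Type u) [AddCommGroup M] [Module B M] [Module A M] [IsScalarTower A B M] (hM : Module.Flat A M) :
    DRing.HasTorDimLE B n M := by
  obtain ⟨g, hg⟩ := Algebra.IsStandardSmoothOfRelativeDimension.exists_etale_mvPolynomial n A B
  letI : Algebra (MvPolynomial (Fin n) A) B := g.toRingHom.toAlgebra
  haveI : Algebra.Etale (MvPolynomial (Fin n) A) B := hg
  haveI : IsScalarTower A (MvPolynomial (Fin n) A) B := IsScalarTower.of_algebraMap_eq fun a => (g.commutes a).symm
  letI : Module (MvPolynomial (Fin n) A) M := Module.compHom M (algebraMap (MvPolynomial (Fin n) A) B)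
  haveI : IsScalarTower (MvPolynomial (Fin n) A) B M := IsScalarTower.of_algebraMap_smul fun _ _ => rfl
  haveI : IsScalarTower A (MvPolynomial (Fin n) A) M := IsScalarTower.of_algebraMap_smul fun a x => by
    change g (algebraMap A _ a) • x = a • x
    rw [g.commutes, algebraMap_smul]
  have h1 : DRing.HasTorDimLE (MvPolynomial (Fin n) A) n M :=
    KFlatLib.torDimLE_of_flat_base n (MvPolynomial (Fin n) A) AlgEquiv.refl M
  haveI : Module.Flat (MvPolynomial (Fin n) A) B := Algebra.Smooth.flat _ _
  have h2 := torDimLE_rise (A := MvPolynomial (Fin n) A) (B := B) 0 (fun N _ _ _ _ hN => by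
    haveI := hN
    exact torDimLE_zero_iff.2 (Algebra.FormallyUnramified.flat_of_restrictScalars (MvPolynomial (Fin n) A) B N))
    n M h1
  simpa using h2

/-- Tor dimension is local. -/
theorem torDimLE_of_localized_span {B : Type u} [CommRing B] (s : Set B) (hs : Ideal.span s = ⊤) :
    ∀ (d : ℕ) (M : Type u) [AddCommGroup M] [Module B M],
      (∀ f : s, DRing.HasTorDimLE (Localization.Away (f : B)) d (Localization.Away (f : B) ⊗[B] M)) →
        DRing.HasTorDimLE B d M := by
  intro d
  induction d with
  | zero =>
    intro M _ _ h
    rw [torDimLE_zero_iff]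
    refine Module.flat_of_isLocalized_span B M s hs (fun f => Localization.Away (f : B) ⊗[B] M)
      (fun f => TensorProduct.mk B (Localization.Away (f : B)) M 1) fun f => ?_
    haveI : Module.Flat (Localization.Away (f : B)) (Localization.Away (f : B) ⊗[B] M) := torDimLE_zero_iff.1 (h f)
    exact Module.Flat.trans B (Localization.Away (f : B)) _
  | succ d ih =>
    intro M _ _ h
    let q : (M →₀ B) →ₗ[B] M := Finsupp.linearCombination B id
    have hq : Function.Surjective q := Finsupp.linearCombination_id_surjective B M
    have hex : Function.Exact (LinearMap.ker q).subtype q := LinearMap.exact_subtype_ker_map q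
    refine (torDimLE_succ_iff (K := ↥(LinearMap.ker q)) (LinearMap.ker q).subtype q (Submodule.injective_subtype _)
      (LinearMap.exact_subtype_ker_map q) hq d).2 (ih _ fun f => ?_)
    exact (torDimLE_succ_iff ((LinearMap.ker q).subtype.baseChange (Localization.Away (f : B)))
      (q.baseChange (Localization.Away (f : B)))
      (Module.Flat.lTensor_preserves_injective_linearMap (M := Localization.Away (f : B)) _ Subtype.val_injective)
      (Module.Flat.lTensor_exact (Localization.Away (f : B)) (N := ↥(LinearMap.ker q)) (N' := M →₀ B) (N'' := M) hex)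
      (LinearMap.lTensor_surjective (Localization.Away (f : B)) hq) d).1 (h f)

/-- A tensor product with a flat algebra keeps flatness over a base. -/
theorem flat_tensor_of_flat {A B C : Type u} [CommRing A] [CommRing B] [CommRing C] [Algebra A B] [Algebra B C]
    [Module.Flat B C] [Algebra A C] [IsScalarTower A B C] (M : Type u) [AddCommGroup M] [Module B M] [Module A M]
    [IsScalarTower A B M] [Module.Flat A M] : Module.Flat A (C ⊗[B] M) := by
  rw [Module.Flat.iff_lTensor_preserves_injective_linearMap]
  intro X Y _ _ _ _ f hf
  have h1 : Function.Injective (TensorProduct.AlgebraTensorModule.lTensor B M f) :=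
    Module.Flat.lTensor_preserves_injective_linearMap (M := M) f hf
  have h2 := Module.Flat.lTensor_preserves_injective_linearMap (M := C) (TensorProduct.AlgebraTensorModule.lTensor B M f) h1
  let eX := TensorProduct.AlgebraTensorModule.assoc A B B C M X
  let eY := TensorProduct.AlgebraTensorModule.assoc A B B C M Y
  have h3 : ∀ z, eY (f.lTensor (C ⊗[B] M) z) =
      (TensorProduct.AlgebraTensorModule.lTensor B M f).lTensor C (eX z) := by
    intro z
    induction z using TensorProduct.induction_on with
    | zero => simp
    | add a b ha hb => simp only [map_add, ha, hb]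
    | tmul w x =>
      induction w using TensorProduct.induction_on with
      | zero => simp
      | add a b ha hb => simp only [TensorProduct.add_tmul, map_add, ha, hb]
      | tmul c y => rfl
  exact fun a b hab => eX.injective (h2 ((h3 a).symm.trans ((congrArg eY hab).trans (h3 b))))

/-- Tor dimension along a smooth algebra of relative dimension `n`. -/
theorem torDimLE_of_smooth {A B : Type u} [CommRing A] [CommRing B] [Algebra A B] [Algebra.Smooth A B] (n : ℕ)
    (hn : ∀ p : PrimeSpectrum B, Module.rankAtStalk (Ω[B⁄A]) p = n) (m : ℕ)
    (M : Type u) [AddCommGroup M] [Module B M] [Module A M] [IsScalarTower A B M]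
    (h : DRing.HasTorDimLE A m M) : DRing.HasTorDimLE B (m + n) M := by
  haveI : Module.Flat A B := Algebra.Smooth.flat A B
  refine torDimLE_rise n (fun N _ _ _ _ hN => ?_) m M h
  haveI := hN
  obtain ⟨s, hs, hstd⟩ := Algebra.Smooth.exists_span_eq_top_isStandardSmooth A B
  refine torDimLE_of_localized_span s hs n N fun f => ?_
  haveI := hstd f f.2
  rcases subsingleton_or_nontrivial (Localization.Away (f : B)) with hss | hnt
  · exact fun X _ _ p _ => Module.subsingleton (Localization.Away (f : B)) _
  obtain ⟨⟨r, hr⟩⟩ : Nonempty { r : ℕ // Algebra.IsStandardSmoothOfRelativeDimension r A (Localization.Away (f : B)) } := by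
    obtain ⟨ι, σ, _, _, ⟨P⟩⟩ := hstd f f.2
    exact ⟨⟨P.dimension, _, _, _, inferInstance, P, rfl⟩⟩
  haveI := hr
  obtain ⟨Q⟩ : Nonempty (PrimeSpectrum (Localization.Away (f : B))) := inferInstance
  haveI : Nontrivial (Localization.Away (f : B)) := hnt
  have hrn : r = n := by
    have h1 := Module.rankAtStalk_isBaseChange (IsLocalizedModule.isBaseChange (Submonoid.powers (f : B))
      (Localization.Away (f : B)) (KaehlerDifferential.map A A B (Localization.Away (f : B)))) Q
    rw [hn, Module.rankAtStalk_eq_finrank_of_free, Pi.natCast_apply, Nat.cast_id] at h1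
    have h2 := congrArg Cardinal.toNat (Algebra.IsStandardSmoothOfRelativeDimension.rank_kaehlerDifferential
      (R := A) (S := Localization.Away (f : B)) r)
    rw [Cardinal.toNat_natCast] at h2
    rw [← h1, ← h2]
    rfl
  subst hrn
  exact torDimLE_of_standardSmooth (A := A) (B := Localization.Away (f : B)) r (Localization.Away (f : B) ⊗[B] N)
    (flat_tensor_of_flat (A := A) (B := B) (C := Localization.Away (f : B)) N)

end Groth.Agent.H1HypTor
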