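import Groth.Agent.H1HypTor.Fd
import Groth.Agent.TorBridge.Shift
import Mathlib.LinearAlgebra.TensorProduct.Quotient
import Mathlib.RingTheory.Derivation.Basic
import Mathlib.RingTheory.Ideal.Quotient.Operations
import Mathlib.RingTheory.Kaehler.Basic

/-!
# Tor over a hypersurface
-/

set_option linter.style.haveILetI false
set_option backward.isDefEq.respectTransparency false

universe u

open CategoryTheory CategoryTheory.Limits MonoidalCategory
open scoped TensorProduct

namespace Groth.Agent.H1HypTor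

section Linear

variable {R : Type u} [CommRing R]

/-- Scalars act on `Tor` through the first variable. -/
theorem tor_map_smul (i : ℕ) (X : ModuleCat.{u} R) (N : ModuleCat.{u} R) (c : R) :
    ((Tor (ModuleCat.{u} R) i).map (c • 𝟙 X)).app N = c • 𝟙 (((Tor (ModuleCat.{u} R) i).obj X).obj N) := by
  let Q := projectiveResolution N
  show (NatTrans.leftDerived ((tensoringLeft (ModuleCat.{u} R)).map (c • 𝟙 X)) i).app N = _
  rw [ProjectiveResolution.leftDerived_app_eq _ Q]
  have h : (NatTrans.mapHomologicalComplex ((tensoringLeft (ModuleCat.{u} R)).map (c • 𝟙 X)) (ComplexShape.down ℕ)).app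
      Q.complex = c • 𝟙 _ := by
    refine HomologicalComplex.hom_ext _ _ fun j => ModuleCat.hom_ext ?_
    refine TensorProduct.ext' fun x y => ?_
    exact (TensorProduct.smul_tmul' c x y).symm
  rw [h]
  have h2 : ∀ {K L : ChainComplex (ModuleCat.{u} R) ℕ} (φ : K ⟶ L),
      (HomologicalComplex.homologyFunctor (ModuleCat.{u} R) (ComplexShape.down ℕ) i).map (c • φ) =
        c • (HomologicalComplex.homologyFunctor (ModuleCat.{u} R) (ComplexShape.down ℕ) i).map φ := fun φ =>
    ShortComplex.homologyMap_smul ((HomologicalComplex.shortComplexFunctor (ModuleCat.{u} R) (ComplexShape.down ℕ) i).map φ) c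
  rw [h2]
  erw [CategoryTheory.Functor.map_id, Linear.smul_comp, Linear.comp_smul, Category.id_comp, Iso.hom_inv_id]
  rfl

/-- Scalars factoring through a flat module kill higher `Tor`. -/
theorem smul_tor_eq_zero_of_factor (X P : ModuleCat.{u} R) [Module.Flat R P] (a : X ⟶ P) (b : P ⟶ X) (c : R)
    (h : a ≫ b = c • 𝟙 X) (N : ModuleCat.{u} R) (i : ℕ)
    (x : ((Tor (ModuleCat.{u} R) (i + 1)).obj X).obj N) : c • x = 0 := by
  have h1 := tor_map_smul (i + 1) X N c
  rw [← h, Functor.map_comp, NatTrans.comp_app,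
    (TorBridge.isZero_tor_succ_of_flat P N i).eq_of_tgt (((Tor (ModuleCat.{u} R) (i + 1)).map a).app N) 0,
    zero_comp] at h1
  exact (ConcreteCategory.congr_hom h1 x).symm

/-- `Tor` of the zero module vanishes. -/
theorem isZero_tor_of_subsingleton (X : ModuleCat.{u} R) [Subsingleton X] (N : ModuleCat.{u} R) (i : ℕ) :
    IsZero (((Tor (ModuleCat.{u} R) i).obj X).obj N) := by
  rw [IsZero.iff_id_eq_zero]
  have h1 := tor_map_smul i X N 0
  rw [show ((0 : R) • 𝟙 X) = 𝟙 X from ModuleCat.hom_ext (LinearMap.ext fun x => Subsingleton.elim _ _),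
    CategoryTheory.Functor.map_id, NatTrans.id_app, zero_smul] at h1
  exact h1

end Linear

section Hypersurface

variable {B R : Type u} [CommRing B] [CommRing R] [Algebra B R] (hsurj : Function.Surjective (algebraMap B R))
  (g : B) (hker : RingHom.ker (algebraMap B R) = Ideal.span {g})

include hsurj in
theorem exists_one_tmul {X : Type u} [AddCommGroup X] [Module B X] (z : R ⊗[B] X) :
    ∃ x : X, (1 : R) ⊗ₜ[B] x = z := by
  induction z using TensorProduct.induction_on with
  | zero => exact ⟨0, TensorProduct.tmul_zero _ _⟩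
  | add a b ha hb =>
    obtain ⟨x, hx⟩ := ha
    obtain ⟨y, hy⟩ := hb
    exact ⟨x + y, by rw [TensorProduct.tmul_add, hx, hy]⟩
  | tmul r x =>
    obtain ⟨b, rfl⟩ := hsurj r
    exact ⟨b • x, by rw [← TensorProduct.smul_tmul, Algebra.algebraMap_eq_smul_one]⟩

include hker in
theorem algebraMap_g : algebraMap B R g = 0 := by
  rw [← RingHom.mem_ker, hker]
  exact Ideal.mem_span_singleton_self g

include hker in
theorem g_smul_eq_zero {X : Type u} [AddCommGroup X] [Module B X] [Module R X] [IsScalarTower B R X] (x : X) :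
    g • x = 0 := by
  rw [← algebraMap_smul R g x, algebraMap_g g hker, zero_smul]

include hker in
theorem one_tmul_g_smul {X : Type u} [AddCommGroup X] [Module B X] (x : X) : (1 : R) ⊗ₜ[B] (g • x) = 0 := by
  rw [← TensorProduct.smul_tmul, ← Algebra.algebraMap_eq_smul_one, algebraMap_g g hker, TensorProduct.zero_tmul]

include hsurj hker in
theorem exists_g_smul {X : Type u} [AddCommGroup X] [Module B X] (x : X) (h : (1 : R) ⊗ₜ[B] x = 0) :
    ∃ y : X, g • y = x := by
  let e : (B ⧸ RingHom.ker (Algebra.ofId B R)) ≃ₐ[B] R := Ideal.quotientKerAlgEquivOfSurjective hsurj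
  have h1 : (1 : B ⧸ RingHom.ker (Algebra.ofId B R)) ⊗ₜ[B] x = 0 := by
    have h2 := congrArg (TensorProduct.congr e.symm.toLinearEquiv (LinearEquiv.refl B X)) h
    rw [map_zero, TensorProduct.congr_tmul] at h2
    rw [show e.symm.toLinearEquiv (1 : R) = 1 from map_one e.symm] at h2
    exact h2
  have h3 := congrArg (TensorProduct.quotTensorEquivQuotSMul X (RingHom.ker (Algebra.ofId B R))) h1
  rw [map_zero] at h3
  have h4 : Submodule.Quotient.mk (p := RingHom.ker (Algebra.ofId B R) • (⊤ : Submodule B X)) x = 0 := by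
    rw [← h3]
    exact ((TensorProduct.quotTensorEquivQuotSMul_mk_tmul (RingHom.ker (Algebra.ofId B R)) (1 : B) x).trans
      (by rw [one_smul])).symm
  rw [Submodule.Quotient.mk_eq_zero, show RingHom.ker (Algebra.ofId B R) = Ideal.span {g} from hker,
    Submodule.ideal_span_singleton_smul, Submodule.mem_smul_pointwise_iff_exists] at h4
  obtain ⟨y, -, hy⟩ := h4
  exact ⟨y, hy⟩

section Presentation

variable {F G L : Type u} [AddCommGroup F] [Module B F] [AddCommGroup G] [Module B G]
  [AddCommGroup L] [Module B L] [Module R L] [IsScalarTower B R L]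
  (u : G →ₗ[B] F) (q : F →ₗ[B] L)

include hker in
theorem exists_mulMap (hu : Function.Injective u) (hex : Function.Exact u q) :
    ∃ gm : F →ₗ[B] G, ∀ y, u (gm y) = g • y := by
  have h : ∀ y : F, g • y ∈ LinearMap.range u := fun y =>
    (hex _).1 (by rw [map_smul, g_smul_eq_zero g hker])
  refine ⟨(LinearEquiv.ofInjective u hu).symm.toLinearMap.comp (LinearMap.codRestrict _ (g • LinearMap.id) h), fun y => ?_⟩
  exact congrArg Subtype.val ((LinearEquiv.ofInjective u hu).apply_symm_apply ⟨g • y, h y⟩)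

include hsurj hker in
theorem exists_iota (hu : Function.Injective u) (hex : Function.Exact u q) (hq : Function.Surjective q) :
    ∃ ι : L →ₗ[R] R ⊗[B] G, ∀ (y : F) (x : G), u x = g • y → ι (q y) = (1 : R) ⊗ₜ[B] x := by
  obtain ⟨gm, hgm⟩ := exists_mulMap g hker u q hu hex
  let ι₀ : F →ₗ[B] R ⊗[B] G := (TensorProduct.mk B R G 1).comp gm
  have h0 : ∀ y, q y = 0 → ι₀ y = 0 := fun y hy => by
    obtain ⟨x, rfl⟩ := (hex y).1 hy
    show (1 : R) ⊗ₜ[B] gm (u x) = 0
    rw [show gm (u x) = g • x from hu (by rw [hgm, map_smul])]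
    exact one_tmul_g_smul g hker x
  choose s hs using hq
  have h1 : ∀ y, ι₀ (s (q y)) = ι₀ y := fun y => by
    rw [← sub_eq_zero, ← map_sub]
    exact h0 _ (by rw [map_sub, hs, sub_self])
  refine ⟨{ toFun := fun l => ι₀ (s l), map_add' := fun a b => ?_, map_smul' := fun r a => ?_ }, fun y x hx => ?_⟩
  · have h2 := h1 (s a + s b)
    rw [map_add q, hs, hs, map_add] at h2
    exact h2
  · obtain ⟨b, rfl⟩ := hsurj r
    have h2 := h1 (b • s a)
    rw [map_smul q, hs, map_smul] at h2
    rw [RingHom.id_apply, algebraMap_smul, algebraMap_smul]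
    exact h2
  · show ι₀ (s (q y)) = _
    rw [h1]
    exact congrArg (fun z => (1 : R) ⊗ₜ[B] z) (hu ((hgm y).trans hx.symm))

include hsurj hker in
theorem presentation_periodic [Module.Flat B F] [Module.Flat B G] (hgF : ∀ y z : F, g • y = g • z → y = z)
    (hu : Function.Injective u) (hex : Function.Exact u q) (hq : Function.Surjective q)
    (N : ModuleCat.{u} R) (i : ℕ) :
    Nonempty (((Tor (ModuleCat.{u} R) (i + 3)).obj (ModuleCat.of R L)).obj N ≅
      ((Tor (ModuleCat.{u} R) (i + 1)).obj (ModuleCat.of R L)).obj N) := by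
  obtain ⟨ι, hι⟩ := exists_iota hsurj g hker u q hu hex hq
  let ρ : R ⊗[B] G →ₗ[R] R ⊗[B] F := u.baseChange R
  let π : R ⊗[B] F →ₗ[R] L := LinearMap.liftBaseChange R q
  have hπ : ∀ y, π ((1 : R) ⊗ₜ[B] y) = q y := fun y => by
    rw [LinearMap.liftBaseChange_tmul, one_smul]
  have hρ : ∀ x, ρ ((1 : R) ⊗ₜ[B] x) = (1 : R) ⊗ₜ[B] u x := fun x => rfl
  have hπρ : ∀ z, ρ z ∈ LinearMap.ker π := fun z => by
    obtain ⟨x, rfl⟩ := exists_one_tmul hsurj z
    rw [LinearMap.mem_ker, hρ, hπ]
    exact hex.apply_apply_eq_zero x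
  let ρ' : R ⊗[B] G →ₗ[R] LinearMap.ker π := ρ.codRestrict _ hπρ
  have hρ' : Function.Surjective ρ' := fun w => by
    obtain ⟨w, hw⟩ := w
    obtain ⟨y, rfl⟩ := exists_one_tmul hsurj w
    rw [LinearMap.mem_ker, hπ] at hw
    obtain ⟨x, hx⟩ := (hex y).1 hw
    exact ⟨(1 : R) ⊗ₜ[B] x, Subtype.ext ((hρ _).trans (congrArg _ hx))⟩
  have hgmul : ∀ y, ∃ x, u x = g • y := fun y => (hex _).1 (by rw [map_smul, g_smul_eq_zero g hker])
  have hιinj : Function.Injective ι := (injective_iff_map_eq_zero ι).2 fun l hl => by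
    obtain ⟨y, rfl⟩ := hq l
    obtain ⟨x, hx⟩ := hgmul y
    rw [hι y x hx] at hl
    obtain ⟨z, hz⟩ := exists_g_smul hsurj g hker _ hl
    rw [← hgF (u z) y (by rw [← map_smul, hz, hx])]
    exact hex.apply_apply_eq_zero z
  have hexι : Function.Exact ι ρ' := fun z => by
    refine ⟨fun hz => ?_, ?_⟩
    · obtain ⟨x, rfl⟩ := exists_one_tmul hsurj z
      obtain ⟨y, hy⟩ := exists_g_smul hsurj g hker (u x) ((hρ x).symm.trans (congrArg Subtype.val hz))
      exact ⟨q y, hι y x hy.symm⟩
    · rintro ⟨l, rfl⟩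
      obtain ⟨y, rfl⟩ := hq l
      obtain ⟨x, hx⟩ := hgmul y
      refine Subtype.ext ?_
      rw [hι y x hx]
      exact (hρ _).trans (by rw [hx]; exact one_tmul_g_smul g hker y)
  have hπsurj : Function.Surjective π := fun l => by
    obtain ⟨y, rfl⟩ := hq l
    exact ⟨_, hπ y⟩
  have hπex : Function.Exact (LinearMap.ker π).subtype π := LinearMap.exact_subtype_ker_map π
  haveI : Module.Flat R (sesOf (K := ↥(LinearMap.ker π)) (LinearMap.ker π).subtype π hπex).X₂ :=
    inferInstanceAs (Module.Flat R (R ⊗[B] F))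
  haveI : Module.Flat R (sesOf (M := ↥(LinearMap.ker π)) ι ρ' hexι).X₂ := inferInstanceAs (Module.Flat R (R ⊗[B] G))
  obtain ⟨e₁⟩ := TorBridge.nonempty_tor_succ_iso _ (sesOf_shortExact (K := ↥(LinearMap.ker π)) (LinearMap.ker π).subtype π
    (Submodule.injective_subtype _) hπex hπsurj) N (i + 1)
  obtain ⟨e₂⟩ := TorBridge.nonempty_tor_succ_iso _ (sesOf_shortExact (M := ↥(LinearMap.ker π)) ι ρ' hιinj hexι hρ') N i
  exact ⟨e₁ ≪≫ e₂⟩

include hsurj hker in
theorem presentation_annihilate [Module.Flat B G] (hu : Function.Injective u) (hex : Function.Exact u q)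
    (hq : Function.Surjective q) (d : B → B) (DF : F →+ F) (hDF : ∀ (b : B) (y : F), DF (b • y) = b • DF y + d b • y)
    (N : ModuleCat.{u} R) (i : ℕ) (x : ((Tor (ModuleCat.{u} R) (i + 1)).obj (ModuleCat.of R L)).obj N) :
    algebraMap B R (d g) • x = 0 := by
  obtain ⟨ι, hι⟩ := exists_iota hsurj g hker u q hu hex hq
  let ψ₀ : G →ₗ[B] L :=
    { toFun := fun z => q (DF (u z))
      map_add' := fun y z => by simp
      map_smul' := fun b y => by
        rw [map_smul u, hDF, map_add, map_smul, map_smul, hex.apply_apply_eq_zero y, smul_zero, add_zero,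
          RingHom.id_apply] }
  let ψ : R ⊗[B] G →ₗ[R] L := LinearMap.liftBaseChange R ψ₀
  haveI : Module.Flat R (ModuleCat.of R (R ⊗[B] G)) := inferInstanceAs (Module.Flat R (R ⊗[B] G))
  refine smul_tor_eq_zero_of_factor _ (ModuleCat.of R (R ⊗[B] G)) (ModuleCat.ofHom ι) (ModuleCat.ofHom ψ) _
    (ModuleCat.hom_ext (LinearMap.ext fun l => ?_)) N i x
  obtain ⟨y, rfl⟩ := hq l
  obtain ⟨z, hz⟩ := (hex _).1 (show q (g • y) = 0 by rw [map_smul, g_smul_eq_zero g hker])
  show ψ (ι (q y)) = algebraMap B R (d g) • q y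
  rw [hι y z hz, LinearMap.liftBaseChange_tmul, one_smul, algebraMap_smul]
  show q (DF (u z)) = d g • q y
  rw [hz, hDF, map_add, map_smul, map_smul, g_smul_eq_zero g hker, zero_add]

end Presentation

include hsurj hker in
/-- A module of tor dimension at most one over the ambient ring has two-periodic `Tor`, killed by the
derivatives of the equation. -/
theorem periodic (hg : IsSMulRegular B g) (L : Type u) [AddCommGroup L] [Module B L] [Module R L]
    [IsScalarTower B R L] (hL : DRing.HasTorDimLE B 1 L) :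
    (∀ (N : ModuleCat.{u} R) (i : ℕ), Nonempty (((Tor (ModuleCat.{u} R) (i + 3)).obj (ModuleCat.of R L)).obj N ≅
      ((Tor (ModuleCat.{u} R) (i + 1)).obj (ModuleCat.of R L)).obj N)) ∧
    (∀ (D : B →+ B), (∀ a b : B, D (a * b) = a * D b + D a * b) → ∀ (N : ModuleCat.{u} R) (i : ℕ)
      (x : ((Tor (ModuleCat.{u} R) (i + 1)).obj (ModuleCat.of R L)).obj N), algebraMap B R (D g) • x = 0) := by
  let q : (L →₀ B) →ₗ[B] L := Finsupp.linearCombination B id
  have hq : Function.Surjective q := Finsupp.linearCombination_id_surjective B L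
  have hu : Function.Injective (LinearMap.ker q).subtype := Submodule.injective_subtype _
  have hex : Function.Exact (LinearMap.ker q).subtype q := LinearMap.exact_subtype_ker_map q
  haveI hG : Module.Flat B (LinearMap.ker q) := (torDimLE_zero_iff (R := B) (M := ↥(LinearMap.ker q))).1
    ((torDimLE_succ_iff (K := ↥(LinearMap.ker q)) (LinearMap.ker q).subtype q hu hex hq 0).1 hL)
  have hgF : ∀ y z : L →₀ B, g • y = g • z → y = z := fun y z h => Finsupp.ext fun l =>
    hg (show g • y l = g • z l by rw [← Finsupp.smul_apply, ← Finsupp.smul_apply, h])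
  refine ⟨fun N i => presentation_periodic hsurj g hker (G := ↥(LinearMap.ker q)) (LinearMap.ker q).subtype q hgF hu hex hq N i,
    fun D hD N i x => presentation_annihilate hsurj g hker (G := ↥(LinearMap.ker q)) (LinearMap.ker q).subtype q hu hex hq
      D (Finsupp.mapRange.addMonoidHom D) (fun b y => Finsupp.ext fun l => ?_) N i x⟩
  simp [hD]

include hsurj hker in
/-- Free modules over the hypersurface have tor dimension at most one. -/
theorem torDimLE_free (hg : IsSMulRegular B g) (X : Type u) : DRing.HasTorDimLE B 1 (X →₀ R) := by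
  let q : (X →₀ B) →ₗ[B] (X →₀ R) := Finsupp.mapRange.linearMap (Algebra.linearMap B R)
  refine (torDimLE_succ_iff (g • (LinearMap.id : (X →₀ B) →ₗ[B] (X →₀ B))) q ?_ ?_ ?_ 0).2
    (torDimLE_zero_iff.2 inferInstance)
  · exact fun y z h => Finsupp.ext fun l => hg (by simpa using DFunLike.congr_fun h l)
  · intro y
    refine ⟨fun h => ?_, ?_⟩
    · have h2 : ∀ l, ∃ b, g * b = y l := fun l => by
        have h3 : algebraMap B R (y l) = 0 := by simpa [q] using DFunLike.congr_fun h l
        rw [← RingHom.mem_ker, hker, Ideal.mem_span_singleton] at h3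
        obtain ⟨b, hb⟩ := h3
        exact ⟨b, hb.symm⟩
      choose b hb using h2
      classical
      refine ⟨Finsupp.onFinset y.support (fun l => if y l = 0 then 0 else b l) (fun l hl => ?_),
        Finsupp.ext fun l => ?_⟩
      · rw [Finsupp.mem_support_iff]
        intro h0
        exact hl (if_pos h0)
      · by_cases h0 : y l = 0
        · simp [h0]
        · simp [h0, hb l]
    · rintro ⟨z, rfl⟩
      refine Finsupp.ext fun l => ?_
      simp [q, Algebra.smul_def, algebraMap_g g hker]
  · exact Finsupp.mapRange_surjective _ (map_zero _) hsurj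

/-- The conclusion for one syzygy degree. -/
def Conclusion (g : B) (M : ModuleCat.{u} R) (k : ℕ) : Prop :=
  (∀ (N : ModuleCat.{u} R) (i : ℕ), Nonempty (((Tor (ModuleCat.{u} R) (i + k + 3)).obj M).obj N ≅
    ((Tor (ModuleCat.{u} R) (i + k + 1)).obj M).obj N)) ∧
  (∀ (D : B →+ B), (∀ a b : B, D (a * b) = a * D b + D a * b) → ∀ (N : ModuleCat.{u} R) (i : ℕ)
    (x : ((Tor (ModuleCat.{u} R) (i + k + 1)).obj M).obj N), algebraMap B R (D g) • x = 0)

include hsurj hker in
theorem conclusion (hg : IsSMulRegular B g) : ∀ (k : ℕ) (M : Type u) [AddCommGroup M] [Module B M] [Module R M]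
    [IsScalarTower B R M], DRing.HasTorDimLE B (k + 1) M → Conclusion g (ModuleCat.of R M) k := by
  intro k
  induction k with
  | zero =>
    intro M _ _ _ _ h
    exact periodic hsurj g hker hg M h
  | succ k ih =>
    intro M _ _ _ _ h
    let q : (M →₀ R) →ₗ[R] M := Finsupp.linearCombination R id
    have hq : Function.Surjective q := Finsupp.linearCombination_id_surjective R M
    have hqe : Function.Exact (LinearMap.ker q).subtype q := LinearMap.exact_subtype_ker_map q
    haveI : Module.Flat R (sesOf (K := ↥(LinearMap.ker q)) (LinearMap.ker q).subtype q hqe).X₂ := inferInstanceAs (Module.Flat R (M →₀ R))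
    have hS := sesOf_shortExact (K := ↥(LinearMap.ker q)) (LinearMap.ker q).subtype q (Submodule.injective_subtype _) hqe hq
    have hSB := sesOf_shortExact (K := ↥(LinearMap.ker q)) ((LinearMap.ker q).subtype.restrictScalars B) (q.restrictScalars B)
      (Submodule.injective_subtype _) hqe hq
    have hK : DRing.HasTorDimLE B (k + 1) (LinearMap.ker q) := fun N _ _ p hp =>
      ModuleCat.isZero_iff_subsingleton.1 (H9Misc.DRingTor.isZero_tor_first hSB (ModuleCat.of B N) p
        (ModuleCat.isZero_iff_subsingleton.2 (torDimLE_free hsurj g hker hg M N p (by omega)))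
        (ModuleCat.isZero_iff_subsingleton.2 (h N (p + 1) (by omega))))
    obtain ⟨hper, hann⟩ := ih _ hK
    refine ⟨fun N i => ?_, fun D hD N i x => ?_⟩
    · obtain ⟨e₁⟩ := TorBridge.nonempty_tor_succ_iso _ hS N (i + k + 2)
      obtain ⟨e₂⟩ := TorBridge.nonempty_tor_succ_iso _ hS N (i + k)
      obtain ⟨e₃⟩ := hper N i
      exact ⟨e₁ ≪≫ e₃ ≪≫ e₂.symm⟩
    · obtain ⟨e₂⟩ := TorBridge.nonempty_tor_succ_iso _ hS N (i + k)
      refine e₂.toLinearEquiv.injective ?_
      rw [map_zero]
      exact (map_smul e₂.toLinearEquiv _ x).trans (hann D hD N i _)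

end Hypersurface

section Main

variable {A B R : Type u} [CommRing A] [CommRing B] [CommRing R] [Algebra A B] [Algebra B R] [Algebra A R]
  [IsScalarTower A B R] [Algebra.Smooth A B] {n : ℕ} {g : B} {m : ℕ}

/-- Either the module is zero, or the periodicity holds from degree `m + n` on. -/
theorem main (hn : ∀ p : PrimeSpectrum B, Module.rankAtStalk (Ω[B⁄A]) p = n) (hg : IsSMulRegular B g)
    (hsurj : Function.Surjective (algebraMap B R)) (hker : RingHom.ker (algebraMap B R) = Ideal.span {g})
    (M : ModuleCat.{u} R)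
    (hM : ∀ (P : ModuleCat.{u} A) (i : ℕ), m < i →
      IsZero (((Tor (ModuleCat.{u} A) i).obj ((ModuleCat.restrictScalars (algebraMap A R)).obj M)).obj P)) :
    Subsingleton M ∨ ∃ k, m + n = k + 1 ∧ Conclusion g M k := by
  letI : Module B M := Module.compHom M (algebraMap B R)
  haveI : IsScalarTower B R M := IsScalarTower.of_algebraMap_smul fun _ _ => rfl
  letI : Module A M := Module.compHom M (algebraMap A R)
  haveI : IsScalarTower A B M := IsScalarTower.of_algebraMap_smul fun a x => by
    change algebraMap B R (algebraMap A B a) • x = algebraMap A R a • x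
    rw [← IsScalarTower.algebraMap_apply A B R]
  have e : ModuleCat.of A M ≅ (ModuleCat.restrictScalars (algebraMap A R)).obj M :=
    LinearEquiv.toModuleIso (X₁ := M) (X₂ := ((ModuleCat.restrictScalars (algebraMap A R)).obj M))
      { toFun := fun x => x
        invFun := fun x => x
        left_inv := fun _ => rfl
        right_inv := fun _ => rfl
        map_add' := fun _ _ => rfl
        map_smul' := fun _ _ => rfl }
  have hA : DRing.HasTorDimLE A m M := fun N _ _ p hp => ModuleCat.isZero_iff_subsingleton.1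
    ((hM (ModuleCat.of A N) p hp).of_iso (((Tor (ModuleCat.{u} A) p).mapIso e).app (ModuleCat.of A N)))
  have hB := torDimLE_of_smooth n hn m M hA
  rcases Nat.eq_zero_or_pos (m + n) with h0 | h0
  · left
    rw [h0, torDimLE_zero_iff] at hB
    refine subsingleton_of_forall_eq 0 fun x => ?_
    have hinj : Function.Injective ((LinearMap.lsmul B B g).rTensor M) :=
      Module.Flat.rTensor_preserves_injective_linearMap _ hg
    have h1 : (1 : B) ⊗ₜ[B] x = 0 := hinj (by
      rw [map_zero, LinearMap.rTensor_tmul, LinearMap.lsmul_apply, TensorProduct.smul_tmul, g_smul_eq_zero g hker,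
        TensorProduct.tmul_zero])
    simpa using congrArg (TensorProduct.lid B M) h1
  · exact Or.inr ⟨m + n - 1, by omega, conclusion hsurj g hker hg (m + n - 1) M
      (torDimLE_mono hB (by omega))⟩

end Main

end Groth.Agent.H1HypTor
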